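import Groth.Agent.CAlgML.Descent
import Groth.Agent.RelFP.Scheme
import Groth.Agent.QCohPull.Affine
import Mathlib.RingTheory.Flat.FaithfullyFlat.Algebra
import Mathlib.RingTheory.Spectrum.Prime.Topology
import Mathlib.LinearAlgebra.TensorProduct.Pi

/-!
# Local projectivity of quasi-coherent modules
-/

set_option autoImplicit false
set_option backward.isDefEq.respectTransparency.types false

noncomputable section

universe u

open CategoryTheory AlgebraicGeometry Opposite TopologicalSpace TensorProduct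

namespace Groth.Agent.ProjLocal

/-- Projectivity over a finite product, factor by factor. -/
theorem projective_pi {ι : Type u} [Finite ι] [DecidableEq ι] (S : ι → Type u)
    [∀ k, CommRing (S k)] (N : ι → Type u) [∀ k, AddCommGroup (N k)] [∀ k, Module (S k) (N k)]
    [∀ k, Module.Projective (S k) (N k)] : Module.Projective (∀ k, S k) (∀ k, N k) := by
  classical
  haveI := Fintype.ofFinite ι
  letI mS : ∀ k, Module (∀ j, S j) (S k) := fun k => Module.compHom _ (Pi.evalRingHom S k)
  letI mN : ∀ k, Module (∀ j, S j) (N k) := fun k => Module.compHom _ (Pi.evalRingHom S k)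
  have hS : ∀ k, Module.Projective (∀ j, S j) (S k) := fun k => by
    let i : S k →ₗ[∀ j, S j] (∀ j, S j) :=
      { toFun := Pi.single k
        map_add' := fun a b => Pi.single_add k a b
        map_smul' := fun c a => by
          funext j
          by_cases h : j = k
          · subst h; simp [show c • a = c j * a from rfl]
          · simp [Pi.single_eq_of_ne h] }
    let p : (∀ j, S j) →ₗ[∀ j, S j] S k :=
      { toFun := fun c => c k, map_add' := fun _ _ => rfl, map_smul' := fun _ _ => rfl }
    exact Module.Projective.of_split i p (LinearMap.ext fun a => Pi.single_eq_same k a)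
  haveI : ∀ k, Module.Projective (∀ j, S j) (N k) := fun k => by
    haveI := hS k
    obtain ⟨s, hs⟩ := (Module.projective_def' (R := S k) (P := N k)).1 inferInstance
    haveI : IsScalarTower (∀ j, S j) (S k) (N k) :=
      ⟨fun c a n => mul_smul (c k) a n⟩
    haveI : IsScalarTower (∀ j, S j) (S k) (N k →₀ S k) :=
      ⟨fun c a n => mul_smul (c k) a n⟩
    haveI : Module.Projective (∀ j, S j) (N k →₀ S k) :=
      Module.Projective.of_equiv' (finsuppLEquivDirectSum (∀ j, S j) (S k) (N k)).symm
    exact Module.Projective.of_split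
      { toFun := s, map_add' := map_add s, map_smul' := fun c n => map_smul s (c k) n }
      ((Finsupp.linearCombination (S k) id).restrictScalars (∀ j, S j))
      (LinearMap.ext fun n => LinearMap.congr_fun hs n)
  let e : (Π₀ k, N k) ≃ₗ[∀ j, S j] (∀ k, N k) :=
    { (DFinsupp.equivFunOnFintype : (Π₀ k, N k) ≃ ∀ k, N k) with
      map_add' := fun _ _ => rfl
      map_smul' := fun _ _ => rfl }
  exact Module.Projective.of_equiv' e

/-- Projectivity is local on the spectrum. -/
theorem projective_of_span {R : Type u} [CommRing R] {M : Type u} [AddCommGroup M] [Module R M]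
    (s : Set R) (hs : Ideal.span s = ⊤) (Rg : s → Type u) [∀ g, CommRing (Rg g)]
    [∀ g, Algebra R (Rg g)] [∀ g : s, IsLocalization.Away g.1 (Rg g)]
    (h : ∀ g : s, Module.Projective (Rg g) (Rg g ⊗[R] M)) : Module.Projective R M := by
  classical
  obtain ⟨t, ht, ht'⟩ := Ideal.span_eq_top_iff_finite s |>.1 hs
  let T := ∀ g : {g : s // g.1 ∈ t}, Rg g.1
  haveI : Finite {g : s // g.1 ∈ t} := by
    refine Finite.of_injective (fun g => (⟨g.1.1, g.2⟩ : t)) fun a b h => ?_
    exact Subtype.ext (Subtype.ext (congrArg (fun z : t => z.1) h))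
  haveI := Fintype.ofFinite {g : s // g.1 ∈ t}
  haveI : ∀ g : {g : s // g.1 ∈ t}, Module.Flat R (Rg g.1) := fun g =>
    IsLocalization.flat _ (Submonoid.powers g.1.1)
  haveI : Module.Flat R T := Module.Flat.of_linearEquiv
    (DirectSum.linearEquivFunOnFintype R {g : s // g.1 ∈ t} (fun g => Rg g.1)).symm
  haveI : Module.FaithfullyFlat R T := by
    refine Module.FaithfullyFlat.of_comap_surjective fun p => ?_
    obtain ⟨g, hg, hgp⟩ : ∃ g ∈ t, g ∉ p.asIdeal := by
      by_contra hcon
      push Not at hcon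
      exact p.2.ne_top (top_le_iff.1 (ht'.ge.trans (Ideal.span_le.2 hcon)))
    let k : {g : s // g.1 ∈ t} := ⟨⟨g, ht hg⟩, hg⟩
    have : p ∈ Set.range (PrimeSpectrum.comap (algebraMap R (Rg k.1))) := by
      haveI : IsLocalization.Away g (Rg k.1) := (inferInstance : IsLocalization.Away k.1.1 (Rg k.1))
      rw [PrimeSpectrum.localization_away_comap_range (Rg k.1) g]
      exact hgp
    obtain ⟨q, rfl⟩ := this
    exact ⟨PrimeSpectrum.comap (Pi.evalRingHom (fun g : {g : s // g.1 ∈ t} => Rg g.1) k) q, rfl⟩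
  let e₀ := TensorProduct.piLeft (R := R) (N := M) (M := fun g : {g : s // g.1 ∈ t} => Rg g.1)
  let e : (T ⊗[R] M) ≃ₗ[T] (∀ g : {g : s // g.1 ∈ t}, Rg g.1 ⊗[R] M) :=
    { e₀.toAddEquiv with
      map_smul' := fun c x => by
        show e₀ (c • x) = c • e₀ x
        induction x with
        | zero => simp
        | tmul a m => funext g; simp [e₀, smul_tmul']; rfl
        | add x y hx hy => rw [smul_add, map_add, map_add, hx, hy, smul_add] }
  haveI : ∀ g : {g : s // g.1 ∈ t}, Module.Projective (Rg g.1) (Rg g.1 ⊗[R] M) := fun g => h g.1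
  haveI := projective_pi (fun g : {g : s // g.1 ∈ t} => Rg g.1) (fun g => Rg g.1 ⊗[R] M)
  haveI : Module.Projective T (T ⊗[R] M) := Module.Projective.of_equiv' e.symm
  exact Groth.Agent.CAlgML.projective_of_faithfullyFlat (R := R) (M := M) T

open Groth.Agent.QCohBase Groth.Agent.RelFP

variable {X : Scheme.{u}} (F : X.Modules) [F.IsQuasicoherent]

theorem projective_res {U W : X.Opens} (hU : IsAffineOpen U) (g : Γ(X, U))
    (hW : W = X.basicOpen g) (H : Module.Projective Γ(X, U) Γ(F, U)) :
    Module.Projective Γ(X, W) Γ(F, W) := by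
  have hWU : W ≤ U := hW.trans_le (X.basicOpen_le g)
  letI : Algebra Γ(X, U) Γ(X, W) := (ores hWU).toAlgebra
  haveI : IsLocalization.Away g Γ(X, W) := hU.isLocalization_of_eq_basicOpen g (homOfLE hWU) hW
  letI := resModule F hWU
  haveI : IsScalarTower Γ(X, U) Γ(X, W) Γ(F, W) := .of_algebraMap_smul fun _ _ ↦ rfl
  haveI := isLocalizedModule_mresₗ F hU g hW hWU
  exact Module.Projective.of_equiv'
    (IsLocalizedModule.isBaseChange (Submonoid.powers g) Γ(X, W) (mresₗ F hWU)).equiv

/-- Locally projective on one affine cover implies projective on every affine. -/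
theorem projective_of_cover
    (H : ∀ x : X, ∃ U₀ : X.Opens, IsAffineOpen U₀ ∧ x ∈ U₀ ∧ Module.Projective Γ(X, U₀) Γ(F, U₀))
    {U : X.Opens} (hU : IsAffineOpen U) : Module.Projective Γ(X, U) Γ(F, U) := by
  let s : Set Γ(X, U) := {g | Module.Projective Γ(X, X.basicOpen g) Γ(F, X.basicOpen g)}
  have hs : Ideal.span s = ⊤ := by
    rw [← hU.self_le_iSup_basicOpen_iff]
    intro x hx
    obtain ⟨U₀, hU₀, hx₀, hP⟩ := H x
    obtain ⟨g, g₀, hgg, hxg⟩ := exists_basicOpen_le_affine_inter hU hU₀ x ⟨hx, hx₀⟩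
    exact Opens.mem_iSup.mpr ⟨⟨g, projective_res F hU₀ g₀ hgg hP⟩, hxg⟩
  have hle : ∀ g : s, X.basicOpen g.1 ≤ U := fun g ↦ X.basicOpen_le g.1
  letI : ∀ g : s, Algebra Γ(X, U) Γ(X, X.basicOpen g.1) := fun g ↦ (ores (hle g)).toAlgebra
  haveI : ∀ g : s, IsLocalization.Away g.1 Γ(X, X.basicOpen g.1) :=
    fun g ↦ hU.isLocalization_basicOpen g.1
  refine projective_of_span s hs (fun g => Γ(X, X.basicOpen g.1)) fun g => ?_
  letI := resModule F (hle g)
  haveI : IsScalarTower Γ(X, U) Γ(X, X.basicOpen g.1) Γ(F, X.basicOpen g.1) :=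
    .of_algebraMap_smul fun _ _ ↦ rfl
  haveI := isLocalizedModule_mresₗ F hU g.1 rfl (hle g)
  haveI : Module.Projective Γ(X, X.basicOpen g.1) Γ(F, X.basicOpen g.1) := g.2
  exact Module.Projective.of_equiv'
    (IsLocalizedModule.isBaseChange (Submonoid.powers g.1) Γ(X, X.basicOpen g.1)
      (mresₗ F (hle g))).equiv.symm

/-- Pullback of locally projective is locally projective. -/
theorem projective_pullback {Y : Scheme.{u}} (f : X ⟶ Y) (G : Y.Modules) [G.IsQuasicoherent]
    (hG : ∀ V : Y.Opens, IsAffineOpen V → Module.Projective Γ(Y, V) Γ(G, V))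
    {U : X.Opens} (hU : IsAffineOpen U) :
    Module.Projective Γ(X, U) Γ((Scheme.Modules.pullback f).obj G, U) := by
  haveI := Groth.Agent.QCohPull.isQuasicoherent_pullback f G
  refine projective_of_cover _ (fun x => ?_) hU
  obtain ⟨U₀, hU₀, V₀, hV₀, e, hx⟩ := exists_affine_pair f x
  refine ⟨U₀, hU₀, hx, ?_⟩
  letI := (f.appLE V₀ U₀ e).hom.toAlgebra
  obtain ⟨q⟩ := Groth.Agent.QCohPull.nonempty_sections_pullback f G hU₀ hV₀ e
  haveI := hG V₀ hV₀
  exact Module.Projective.of_equiv' q

end Groth.Agent.ProjLocal
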